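import Cfsg.Agent.H317.PQ.Defs
import Mathlib.GroupTheory.OrderOfElement
import Mathlib.Data.ZMod.Basic

/-!
# S4612: principal blocks for distinct primes differ: the shape of the rows of Lie type (helper317)

`q` is the order of the field (of the fixed field for the twisted groups), `r` its characteristic.
* `ord q p` : the order of `q` modulo `p` (`0` if `p ∣ q`);
* `Kill G q e f` : the pairs of odd primes of orders `e`, `f` are excluded;
* `KillTwo G q f` : the pairs `2`, `l` with `l` of order `f` are excluded;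
* `row_of_kill` : the assembly.
-/

set_option autoImplicit false

namespace Cfsg.Agent.H317.PQ

universe u

/-- the order of `q` modulo `p` -/
noncomputable abbrev ord (q p : ℕ) : ℕ := orderOf (q : ZMod p)

theorem ord_eq_one {q p : ℕ} (hq : 1 ≤ q) : ord q p = 1 ↔ p ∣ q - 1 := by
  rw [ord, orderOf_eq_one_iff, ← ZMod.natCast_eq_zero_iff, Nat.cast_sub hq, Nat.cast_one, sub_eq_zero]

theorem ord_dvd {q p n : ℕ} (hq : 1 ≤ q) : ord q p ∣ n ↔ p ∣ q ^ n - 1 := by
  rw [ord, orderOf_dvd_iff_pow_eq_one, ← ZMod.natCast_eq_zero_iff, Nat.cast_sub (Nat.one_le_pow _ _ hq),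
    Nat.cast_one, sub_eq_zero, Nat.cast_pow]

theorem ord_pos {q p : ℕ} (hp : p.Prime) (hq : ¬ p ∣ q) : 0 < ord q p := by
  have : Fact p.Prime := ⟨hp⟩
  rw [ord, orderOf_pos_iff]
  have h : (q : ZMod p) ≠ 0 := by rwa [Ne, ZMod.natCast_eq_zero_iff]
  have h1 : IsUnit (q : ZMod p) := isUnit_iff_ne_zero.2 h
  obtain ⟨x, hx⟩ := h1
  rw [← hx]
  exact Units.isOfFinOrder_val.2 (isOfFinOrder_of_finite x)

/-- the pairs of odd primes of orders `e`, `f` are excluded -/
def Kill (G : Type u) [Group G] (q e f : ℕ) : Prop :=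
  ∀ p l : ℕ, p.Prime → l.Prime → p ≠ 2 → l ≠ 2 → p ≠ l → p ∣ Nat.card G → l ∣ Nat.card G →
    ord q p = e → ord q l = f → ¬ Same p l G

theorem Kill.symm {G : Type u} [Group G] {q e f : ℕ} (h : Kill G q e f) : Kill G q f e :=
  fun p l hp hl hp2 hl2 hpl hpG hlG h1 h2 hS => h l p hl hp hl2 hp2 hpl.symm hlG hpG h2 h1 hS.symm

/-- the pairs `2`, `l` with `l` of order `f` are excluded -/
def KillTwo (G : Type u) [Group G] (q f : ℕ) : Prop :=
  ∀ l : ℕ, l.Prime → l ≠ 2 → l ∣ Nat.card G → ord q l = f → ¬ Same 2 l G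

/-- the odd primes dividing `q - 1` are excluded -/
def Lin (G : Type u) [Group G] (q : ℕ) : Prop :=
  ∀ p l : ℕ, p.Prime → l.Prime → p ≠ 2 → p ≠ l → ¬ l ∣ q → p ∣ q - 1 → l ∣ Nat.card G → ¬ Same p l G

/-- the prime `2` is excluded if `4 ∣ q - 1` -/
def LinTwo (G : Type u) [Group G] (q : ℕ) : Prop :=
  q % 4 = 1 → ∀ l : ℕ, l.Prime → l ≠ 2 → ¬ l ∣ q → l ∣ Nat.card G → ¬ Same 2 l G

/-- **assembly of a row of Lie type**: `es` = the orders `≥ 2` which occur -/
theorem row_of_kill {G : Type u} [Group G] {r q : ℕ} (hrq : ∀ p : ℕ, p.Prime → p ∣ q → p = r)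
    (own : ∀ l : ℕ, l.Prime → l ≠ r → l ∣ Nat.card G → ¬ Same r l G)
    (lin : Lin G q) (lin2 : LinTwo G q)
    (es : List ℕ) (hes : ∀ p : ℕ, p.Prime → p ∣ Nat.card G → p = r ∨ p ∣ q - 1 ∨ ord q p ∈ es)
    (kill : ∀ e ∈ es, ∀ f ∈ es, e ≤ f → Kill G q e f)
    (two : q % 4 = 3 → ∀ f ∈ es, KillTwo G q f) : Row G := by
  have main2 : ∀ l : ℕ, l.Prime → l ≠ 2 → 2 ∣ Nat.card G → l ∣ Nat.card G → ¬ Same 2 l G := by
    intro l hl hl2 h2G hlG hS
    by_cases h2r : r = 2
    · exact own l hl (by rwa [h2r]) hlG (by rwa [h2r])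
    · by_cases hlr : l = r
      · rw [hlr] at hS
        exact own 2 Nat.prime_two (fun h => h2r h.symm) h2G hS.symm
      · have hodd : ¬ 2 ∣ q := fun h => h2r (hrq 2 Nat.prime_two h).symm
        have h4 : q % 4 = 1 ∨ q % 4 = 3 := by omega
        rcases h4 with h4 | h4
        · exact lin2 h4 l hl hl2 (fun h => hlr (hrq l hl h)) hlG hS
        · rcases hes l hl hlG with h | h | h
          · exact hlr h
          · exact lin l 2 hl Nat.prime_two hl2 hl2 hodd h h2G hS.symm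
          · exact two h4 _ h l hl hl2 hlG rfl hS
  intro p l hp hl hpl hpG hlG hS
  by_cases hp2 : p = 2
  · subst hp2
    exact main2 l hl hpl.symm hpG hlG hS
  by_cases hl2 : l = 2
  · subst hl2
    exact main2 p hp hpl hlG hpG hS.symm
  by_cases hpr : p = r
  · subst hpr
    exact own l hl hpl.symm hlG hS
  by_cases hlr : l = r
  · subst hlr
    exact own p hp hpl hpG hS.symm
  rcases hes p hp hpG with h | h | h
  · exact hpr h
  · exact lin p l hp hl hp2 hpl (fun h => hlr (hrq l hl h)) h hlG hS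
  · rcases hes l hl hlG with h' | h' | h'
    · exact hlr h'
    · exact lin l p hl hp hl2 hpl.symm (fun h => hpr (hrq p hp h)) h' hpG hS.symm
    · rcases le_total (ord q p) (ord q l) with h1 | h1
      · exact kill _ h _ h' h1 p l hp hl hp2 hl2 hpl hpG hlG rfl rfl hS
      · exact kill _ h' _ h h1 l p hl hp hl2 hp2 hpl.symm hlG hpG rfl rfl hS.symm

end Cfsg.Agent.H317.PQ
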