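import Cfsg.Agent.S0902
import Cfsg.Agent.Blocks.Basic
import Cfsg.Agent.Blocks.Local

/-!
# S4612: principal blocks for distinct primes differ: the interface (helper317)

* `B0 p G` : the principal `p`-block (it does not depend on the maximal ideal: `B0_eq`).
* `Same p q G` : `B0 p G = B0 q G`.
* `Row G` : `B0 p G ≠ B0 q G` for distinct prime divisors `p`, `q` of the order of `G`.
-/

set_option autoImplicit false

open Cfsg

namespace Cfsg.Agent.H317.PQ

open Cfsg.Agent.Blocks.Basic Cfsg.Agent.Blocks.Local

universe u v

/-- The principal `p`-block. -/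
def B0 (p : ℕ) (G : Type u) [Group G] : Set (IrrCharacter G) :=
  {χ | ∀ M : Ideal AlgInt, IsPModular p M → χ ∈ principalBlock M G}

/-- The principal `p`-block does not depend on the maximal ideal. -/
theorem B0_eq {p : ℕ} (hp : p.Prime) {G : Type u} [Group G] [Finite G] {M : Ideal AlgInt} (hM : IsPModular p M) :
    B0 p G = principalBlock M G := by
  have : Fact p.Prime := ⟨hp⟩
  have hMp : M.IsPrime := isPrime_of_isPModular hM
  apply Set.Subset.antisymm
  · intro χ hχ
    exact hχ M hM
  · intro χ h M' hM' g
    have hMp' : M'.IsPrime := isPrime_of_isPModular hM'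
    obtain ⟨r, hr, hr2⟩ := S0902.result p M hM ⟨_, isIrrCharacter_one⟩ χ h M' hM' g
    have h1 : MemLocalIdeal M' (r : ℂ) := memLocalIdeal_of_mem hr
    rw [hr2] at h1
    exact h1

/-- The principal `p`-block is the principal `q`-block. -/
def Same (p q : ℕ) (G : Type u) [Group G] : Prop := B0 p G = B0 q G

theorem Same.symm {p q : ℕ} {G : Type u} [Group G] (h : Same p q G) : Same q p G := Eq.symm h

/-- The principal blocks for distinct prime divisors of the order of `G` are different. -/
def Row (G : Type u) [Group G] : Prop :=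
  ∀ p q : ℕ, p.Prime → q.Prime → p ≠ q → p ∣ Nat.card G → q ∣ Nat.card G → ¬ Same p q G

/-- It suffices to treat the pairs with `p < q`. -/
theorem Row.of_lt {G : Type u} [Group G]
    (h : ∀ p q : ℕ, p.Prime → q.Prime → p < q → p ∣ Nat.card G → q ∣ Nat.card G → ¬ Same p q G) : Row G := by
  intro p q hp hq hpq hpG hqG hS
  rcases lt_or_gt_of_ne hpq with h1 | h1
  · exact h p q hp hq h1 hpG hqG hS
  · exact h q p hq hp h1 hqG hpG hS.symm

end Cfsg.Agent.H317.PQ
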